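import Groth.Agent.AlgSpCartier.Descent
import Groth.Agent.AlgSpc.Basic
import Groth.Agent.AlgSpc.LocP
import Groth.Agent.DivPts.Cartier
import Groth.Prelude.Def_CurvBase
import Groth.Prelude.Def_AlgSpSub

/-!
Effective Cartier divisors on algebraic spaces in charts.
-/

set_option autoImplicit false
set_option backward.isDefEq.respectTransparency false
universe u

open CategoryTheory Limits AlgebraicGeometry
open AlgSp

namespace Groth.Agent.AlgSpCartier

open Groth.Agent.AlgSpc

variable {S : Scheme.{u}}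

/-- The subscheme of an ideal sheaf, over `S`. -/
noncomputable abbrev sub {V : Over S} (I : V.left.IdealSheafData) : Over S := Over.mk (I.subschemeι ≫ V.hom)

noncomputable abbrev subι {V : Over S} (I : V.left.IdealSheafData) : sub I ⟶ V := Over.homMk I.subschemeι rfl

/-- `I` cuts out the inverse image of `i` in the chart. -/
def CutsOut {X D : Sp S} (i : D ⟶ X) {V : Over S} (φ : (yon S).obj V ⟶ X)
    (I : V.left.IdealSheafData) : Prop :=
  ∃ fst : (yon S).obj (sub I) ⟶ D, IsPullback fst ((yon S).map (subι I)) i φ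

variable {X D : Sp S} {i : D ⟶ X}

/-- A represented pullback by a closed immersion gives the ideal sheaf cutting out. -/
theorem cutsOut_of_sq {V W : Over S} {φ : (yon S).obj V ⟶ X} {fst : (yon S).obj W ⟶ D} {snd : W ⟶ V}
    [IsClosedImmersion snd.left] (sq : IsPullback fst ((yon S).map snd) i φ) : CutsOut i φ snd.left.ker := by
  let e : W ≅ sub (V := V) snd.left.ker := Over.isoMk (asIso snd.left.toImage)
    (by change snd.left.toImage ≫ snd.left.imageι ≫ V.hom = W.hom
        rw [snd.left.toImage_imageι_assoc, Over.w])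
  refine ⟨(yon S).map e.inv ≫ fst, sq.of_iso ((yon S).mapIso e) (Iso.refl _) (Iso.refl _)
    (Iso.refl _) ?_ ?_ (by simp) (by simp)⟩
  · simp [← Functor.map_comp_assoc]
  · rw [Iso.refl_hom, Category.comp_id, Functor.mapIso_hom, ← Functor.map_comp]
    exact congrArg _ (Over.OverMorphism.ext (show snd.left = snd.left.toImage ≫ snd.left.imageι from
      snd.left.toImage_imageι.symm))

theorem exists_cutsOut (hi : RepWith @IsClosedImmersion i) {V : Over S} (φ : (yon S).obj V ⟶ X) :
    ∃ I, CutsOut i φ I := by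
  obtain ⟨W, fst, snd, sq⟩ := exists_sq hi.1 φ
  haveI : IsClosedImmersion snd.left := hi.2 _ _ _ sq
  exact ⟨_, cutsOut_of_sq sq⟩

theorem comap_le {U V W : Over S} {φ : (yon S).obj U ⟶ X} {ψ : (yon S).obj V ⟶ X}
    {I : U.left.IdealSheafData} {J : V.left.IdealSheafData} (hI : CutsOut i φ I) (hJ : CutsOut i ψ J)
    (w₁ : W ⟶ U) (w₂ : W ⟶ V) (h : (yon S).map w₁ ≫ φ = (yon S).map w₂ ≫ ψ) :
    J.comap w₂.left ≤ I.comap w₁.left := by
  obtain ⟨a, sqI⟩ := hI
  obtain ⟨b, sqJ⟩ := hJ
  let k : sub (I.comap w₁.left) ⟶ sub I :=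
    Over.homMk ((I.comapIso w₁.left).hom ≫ pullback.snd _ _) (by
      change ((I.comapIso w₁.left).hom ≫ pullback.snd _ _) ≫ I.subschemeι ≫ U.hom = _
      rw [Category.assoc, ← pullback.condition_assoc, Scheme.IdealSheafData.comapIso_hom_fst_assoc, Over.w]
      rfl)
  have hk : k ≫ subι I = subι (I.comap w₁.left) ≫ w₁ := Over.OverMorphism.ext (by
    change ((I.comapIso w₁.left).hom ≫ pullback.snd _ _) ≫ I.subschemeι = _
    rw [Category.assoc, ← pullback.condition, Scheme.IdealSheafData.comapIso_hom_fst_assoc]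
    rfl)
  let l := pre (sqJ.lift ((yon S).map k ≫ a) ((yon S).map (subι (I.comap w₁.left) ≫ w₂))
    (by rw [Category.assoc, sqI.w, ← Category.assoc, ← Functor.map_comp, hk, Functor.map_comp,
      Category.assoc, h, Functor.map_comp, Category.assoc]))
  have hl : l ≫ subι J = subι (I.comap w₁.left) ≫ w₂ := (yon S).map_injective (by
    simp only [l, Functor.map_comp, map_pre, IsPullback.lift_snd])
  rw [← Scheme.IdealSheafData.le_map_iff_comap_le]
  calc J = J.subschemeι.ker := (J.ker_subschemeι).symm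
    _ ≤ (l.left ≫ J.subschemeι).ker := l.left.le_ker_comp J.subschemeι
    _ = ((I.comap w₁.left).subschemeι ≫ w₂.left).ker :=
      congrArg Scheme.Hom.ker (congrArg CommaMorphism.left hl)

theorem comap_eq {U V W : Over S} {φ : (yon S).obj U ⟶ X} {ψ : (yon S).obj V ⟶ X}
    {I : U.left.IdealSheafData} {J : V.left.IdealSheafData} (hI : CutsOut i φ I) (hJ : CutsOut i ψ J)
    (w₁ : W ⟶ U) (w₂ : W ⟶ V) (h : (yon S).map w₁ ≫ φ = (yon S).map w₂ ≫ ψ) :
    I.comap w₁.left = J.comap w₂.left :=
  le_antisymm (comap_le hJ hI w₂ w₁ h.symm) (comap_le hI hJ w₁ w₂ h)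

/-- On an effective Cartier divisor every etale chart sees an effective Cartier ideal sheaf. -/
theorem cartier_of_chart (hX : IsAlgSpace X) (hD : IsEffCartierSub i) {U : Over S}
    (ψ : (yon S).obj U ⟶ X) (hψ : RepWith @Etale ψ) {J : U.left.IdealSheafData} (hJ : CutsOut i ψ J) :
    BlowUp.IsEffCartierIdeal J := by
  obtain ⟨-, V, φ, I, fst, hφ, hφs, sq, hI⟩ := hD
  obtain ⟨W, a, b, sqW⟩ := exists_sq hφ.1 ψ
  haveI : Etale b.left := hφ.2 _ _ _ sqW
  haveI : Surjective b.left := hφs.2 _ _ _ sqW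
  haveI : Etale (pre a).left := by
    have h2 : RepWith @Etale ((yon S).map (pre a)) := by
      rw [map_pre]; exact repWith_of_isPullback sqW.flip hψ
    exact (repWith_yon_map_iff @Etale _).1 h2
  have hI' := ModPairLib.isEffCartier_comap_flat hI (pre a).left
  rw [comap_eq ⟨fst, sq⟩ hJ (pre a) b (by rw [map_pre]; exact sqW.w)] at hI'
  exact isEffCartierIdeal_of_comap b.left b.left.isOpenMap hI'

theorem isAffineHom_compl {V : Scheme.{u}} (I : V.IdealSheafData) (hI : Curv2.IsLocPrincipal I) :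
    IsAffineHom (Scheme.Opens.ι (X := V) I.support.compl) := by
  set O : V.Opens := I.support.compl with hO
  refine isAffineHom_of_forall_exists_isAffineOpen _ fun x => ?_
  by_cases hx : x ∈ I.support
  · obtain ⟨U, hxU, f, hf⟩ := hI x hx
    refine ⟨U.1, hxU, U.2, ?_⟩
    rw [← O.ι.isAffineOpen_iff_of_isOpenImmersion, Scheme.Hom.image_preimage_eq_opensRange_inf,
      Scheme.Opens.opensRange_ι, DivPts.compl_inf_eq_basicOpen I U hf]
    exact U.2.basicOpen _
  · obtain ⟨U, hU, hxU, hle⟩ := exists_isAffineOpen_mem_and_subset (U := O) (x := x) hx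
    refine ⟨U, hxU, hU, ?_⟩
    rw [← O.ι.isAffineOpen_iff_of_isOpenImmersion, Scheme.Hom.image_preimage_eq_opensRange_inf,
      Scheme.Opens.opensRange_ι, inf_eq_right.2 (show U ≤ O from hle)]
    exact hU

/-- The complement of a closed subspace, seen in a chart. -/
theorem compl_chart {U : Sp S} {j : U ⟶ X} (hj : RepWith @IsOpenImmersion j)
    (hU : Set.range (Points.map j) = (Set.range (Points.map i))ᶜ) {V : Over S} {φ : (yon S).obj V ⟶ X}
    {I : V.left.IdealSheafData} (hI : CutsOut i φ I) :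
    ∃ (O : V.left.Opens) (fst : (yon S).obj (Over.mk (O.ι ≫ V.hom)) ⟶ U),
      O = I.support.compl ∧
      IsPullback fst ((yon S).map (Over.homMk O.ι rfl : Over.mk (O.ι ≫ V.hom) ⟶ V)) j φ := by
  obtain ⟨a, sqI⟩ := hI
  obtain ⟨W, fst, snd, sq⟩ := exists_sq hj.1 φ
  haveI : IsOpenImmersion snd.left := hj.2 _ _ _ sq
  refine ⟨I.support.compl, ?_⟩
  have hr : Set.range snd.left = Set.range (Scheme.Opens.ι (X := V.left) I.support.compl) := by
    rw [Scheme.Opens.range_ι]
    ext v
    change _ ↔ v ∉ (I.support : Set V.left)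
    rw [← Scheme.IdealSheafData.range_subschemeι]
    constructor
    · rintro ⟨w, rfl⟩ ⟨d, hd⟩
      have h1 : Points.ofPt φ (snd.left w) ∈ Set.range (Points.map j) :=
        ⟨Points.ofPt fst w, by rw [Points.map_ofPt, sq.w, ofPt_comp]⟩
      rw [hU] at h1
      refine h1 ⟨Points.ofPt a d, ?_⟩
      rw [Points.map_ofPt, sqI.w, ofPt_comp]
      exact congrArg _ hd
    · intro hv
      have h1 : Points.ofPt φ v ∈ Set.range (Points.map j) := by
        rw [hU]
        rintro ⟨x, hx⟩
        obtain ⟨d, -, hd⟩ := exists_point_of_sq sqI x v hx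
        exact hv ⟨d, hd⟩
      obtain ⟨x, hx⟩ := h1
      obtain ⟨w, -, hw⟩ := exists_point_of_sq sq x v hx
      exact ⟨w, hw⟩
  let e : W ≅ Over.mk (Scheme.Opens.ι (X := V.left) I.support.compl ≫ V.hom) :=
    Over.isoMk (IsOpenImmersion.isoOfRangeEq snd.left _ hr) (by
      change (IsOpenImmersion.isoOfRangeEq _ _ hr).hom ≫ _ ≫ V.hom = W.hom
      rw [IsOpenImmersion.isoOfRangeEq_hom_fac_assoc, Over.w])
  refine ⟨(yon S).map e.inv ≫ fst, rfl, sq.of_iso ((yon S).mapIso e) (Iso.refl _) (Iso.refl _)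
    (Iso.refl _) ?_ ?_ (by simp) (by simp)⟩
  · simp [← Functor.map_comp_assoc]
  · rw [Iso.refl_hom, Category.comp_id, Functor.mapIso_hom, ← Functor.map_comp]
    exact congrArg _ (Over.OverMorphism.ext (show snd.left = (IsOpenImmersion.isoOfRangeEq _ _ hr).hom ≫ _ from
      (IsOpenImmersion.isoOfRangeEq_hom_fac _ _ hr).symm))

end Groth.Agent.AlgSpCartier
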