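import Groth.Agent.ModPairLib.Charts
import Groth.Agent.ModPairLib.Glue
import Mathlib.RingTheory.Flat.EquationalCriterion
import Mathlib.RingTheory.Ideal.Quotient.Operations

/-!
Effective Cartier ideal sheaves descend along open surjective flat morphisms.
-/

set_option autoImplicit false
universe u

open CategoryTheory Limits AlgebraicGeometry TopologicalSpace Groth.Agent.QCohBase

namespace Groth.Agent.AlgSpCartier

/-- Colon ideals of principal ideals commute with flat ring maps, at a prime. -/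
theorem exists_notMem_mul {A B : Type u} [CommRing A] [CommRing B] (φ : A →+* B) (hφ : φ.Flat)
    (q : Ideal B) [q.IsPrime] {a j : A} {b d : B} (hb : b ∉ q) (h : b * φ a = d * φ j) :
    ∃ s, φ s ∉ q ∧ ∃ t, s * a = t * j := by
  letI : Algebra A B := φ.toAlgebra
  haveI : @Module.Flat A B _ _ φ.toAlgebra.toModule := hφ
  have h0 : ∑ i, (![a, -j] : Fin 2 → A) i • (![b, d] : Fin 2 → B) i = 0 := by
    rw [Fin.sum_univ_two]
    change φ a * b + φ (-j) * d = 0
    rw [map_neg, neg_mul, mul_comm (φ a), h, mul_comm d, add_neg_cancel]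
  obtain ⟨k, c, y, hy, hc⟩ := Module.Flat.isTrivialRelation_of_sum_smul_eq_zero (f := (![a, -j] : Fin 2 → A)) (x := (![b, d] : Fin 2 → B)) h0
  have h1 : ∃ i, φ (c 0 i) ∉ q := by
    by_contra hno
    push Not at hno
    have e : b = ∑ i, φ (c 0 i) * y i := hy 0
    exact hb (e ▸ q.sum_mem fun i _ => q.mul_mem_right _ (hno i))
  obtain ⟨i, hi⟩ := h1
  refine ⟨c 0 i, hi, c 1 i, ?_⟩
  have e := hc i
  rw [Fin.sum_univ_two] at e
  change a * c 0 i + -j * c 1 i = 0 at e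
  rw [neg_mul, ← sub_eq_add_neg, sub_eq_zero] at e
  rw [mul_comm, e, mul_comm]

variable {X Y : Scheme.{u}}

theorem exists_generator {B : Type u} [CommRing B] (q : Ideal B) [q.IsPrime] (T : Set B) {g : B}
    (hg : g ∈ nonZeroDivisors B) (h : Ideal.span T = Ideal.span {g}) : ∃ t ∈ T, ∃ b ∉ q, t = b * g := by
  by_contra hno
  push Not at hno
  have hle : Ideal.span T ≤ Ideal.span {g} * q := Ideal.span_le.2 fun t ht => by
    obtain ⟨b, hb⟩ := Ideal.mem_span_singleton'.1 (h ▸ Ideal.subset_span ht : t ∈ Ideal.span {g})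
    refine Ideal.mem_span_singleton_mul.2 ⟨b, ?_, by rw [← hb, mul_comm]⟩
    by_contra hbq
    exact hno t ht b hbq hb.symm
  obtain ⟨z, hz, hzg⟩ := Ideal.mem_span_singleton_mul.1 (hle (h ▸ Ideal.mem_span_singleton_self g))
  have h1 : z = 1 := (isRegular_iff_mem_nonZeroDivisors.2 hg).left (hzg.trans (mul_one g).symm)
  exact (Ideal.IsPrime.ne_top ‹_›) ((Ideal.eq_top_iff_one q).2 (h1 ▸ hz))

/-- Effective Cartier ideal sheaves descend along open surjective flat morphisms. -/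
theorem isEffCartierIdeal_of_comap (f : Y ⟶ X) [Flat f] (hopen : IsOpenMap f.base) [Surjective f]
    {I : X.IdealSheafData} (h : BlowUp.IsEffCartierIdeal (I.comap f)) :
    BlowUp.IsEffCartierIdeal I := by
  intro x
  obtain ⟨y, rfl⟩ := f.surjective x
  obtain ⟨U, hU, hxU, -⟩ := exists_isAffineOpen_mem_and_subset (U := ⊤) (x := f.base y) trivial
  obtain ⟨V, hyV, hVU, hspan⟩ := ModPairLib.exists_span h y (f ⁻¹ᵁ U) hxU
  obtain ⟨g, hg⟩ := hspan V le_rfl
  have hg0 := ModPairLib.nzd_of_span h V hg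
  rw [FpqcDescent.ideal_comap I f ⟨U, hU⟩ V hVU, Ideal.map] at hg
  let φ := (f.appLE U V.1 hVU).hom
  have hφ : φ.Flat := Flat.flat_appLE f hU V.2 hVU
  have hI : ∀ a ∈ I.ideal ⟨U, hU⟩, ∃ e, φ a = e * g := fun a ha => by
    obtain ⟨e, he⟩ := Ideal.mem_span_singleton'.1
      (hg ▸ Ideal.subset_span ⟨a, ha, rfl⟩ : φ a ∈ Ideal.span {g})
    exact ⟨e, he.symm⟩
  obtain ⟨_, ⟨j, hj, rfl⟩, b, hb, hjb : φ j = b * g⟩ :=
    exists_generator (V.2.primeIdealOf ⟨y, hyV⟩).asIdeal _ hg0 hg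
  have hyb : y ∈ Y.basicOpen b := (mem_basicOpen_iff_notMem_prime V.2 y hyV b).2 hb
  obtain ⟨h', hh'le, hxh'⟩ := hU.exists_basicOpen_le
    (V := ⟨f.base '' (Y.basicOpen b : Set Y), hopen _ (Y.basicOpen b).isOpen⟩) ⟨f.base y, ⟨y, hyb, rfl⟩⟩ hxU
  have key : ∀ (a : Γ(X, U)) (d : Γ(Y, V.1)) (j' : Γ(X, U)), b * φ a = d * φ j' →
      ∃ n : ℕ, ∃ t, h' ^ n * a = t * j' := by
    intro a d j' had
    let C : Ideal Γ(X, U) := Submodule.comap (LinearMap.toSpanSingleton Γ(X, U) Γ(X, U) a) (Ideal.span {j'})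
    have hC : ∀ s, s ∈ C ↔ ∃ t, s * a = t * j' := fun s => by
      simp [C, Ideal.mem_span_singleton', eq_comm]
    suffices h' ∈ C.radical by obtain ⟨n, hn⟩ := this; exact ⟨n, (hC _).1 hn⟩
    rw [Ideal.radical_eq_sInf]
    refine Submodule.mem_sInf.2 fun P ⟨hCP, hP⟩ => ?_
    by_contra hh
    obtain ⟨p, hp, hpP⟩ := AssPts.exists_point hU P
    have hpb : p ∈ X.basicOpen h' := (mem_basicOpen_iff_notMem_prime hU p hp h').2 (hpP ▸ hh)
    obtain ⟨y', hy', rfl⟩ := hh'le hpb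
    have hy'V : y' ∈ V.1 := Y.basicOpen_le b hy'
    obtain ⟨s, hs, t, hst⟩ := exists_notMem_mul φ hφ (V.2.primeIdealOf ⟨y', hy'V⟩).asIdeal
      ((mem_basicOpen_iff_notMem_prime V.2 y' hy'V b).1 hy') had
    refine hs ?_
    have hsP : s ∈ (hU.primeIdealOf ⟨f y', hVU hy'V⟩).asIdeal := hpP ▸ hCP ((hC s).2 ⟨t, hst⟩)
    rw [← IsAffineOpen.comap_primeIdealOf_appLE U hU V.1 V.2 hVU hy'V] at hsP
    exact hsP
  let W := X.affineBasicOpen (U := ⟨U, hU⟩) h'
  let r : Γ(X, U) →+* Γ(X, W.1) := (X.presheaf.map (homOfLE <| X.basicOpen_le h').op).hom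
  letI : Algebra Γ(X, U) Γ(X, W.1) := r.toAlgebra
  haveI : IsLocalization.Away h' Γ(X, W.1) := hU.isLocalization_basicOpen h'
  have hu : IsUnit (r h') := IsLocalization.Away.algebraMap_isUnit h'
  refine ⟨W, hxh', r j, mem_nonZeroDivisors_iff_right.2 fun z hz => ?_, ?_⟩
  · obtain ⟨n, a, ha⟩ := IsLocalization.Away.surj h' z
    replace ha : z * r h' ^ n = r a := ha
    have h1 : r (a * j) = r 0 := by rw [map_mul, ← ha, mul_right_comm, hz, zero_mul, map_zero]
    obtain ⟨m, hm⟩ := IsLocalization.Away.exists_of_eq (x := h') h1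
    have h2 : φ (h' ^ m * a) * b * g = 0 := by
      rw [mul_assoc, ← hjb, ← map_mul, mul_assoc, hm, mul_zero, map_zero]
    have h3 : b * φ (h' ^ m * a) = 0 * φ j := by
      rw [zero_mul, mul_comm]; exact mem_nonZeroDivisors_iff_right.1 hg0 _ h2
    have h3' : b * φ (h' ^ m * a) = 0 * φ 0 := by rw [h3, zero_mul, zero_mul]
    obtain ⟨k, t, hk⟩ := key _ _ _ h3'
    rw [mul_zero] at hk
    have h4 : r h' ^ (k + m) * r a = 0 := by
      rw [← map_pow, ← map_mul, pow_add, mul_assoc, hk, map_zero]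
    rw [← ha, mul_comm z, ← mul_assoc] at h4
    exact (((hu.pow (k + m)).mul (hu.pow n)).mul_right_eq_zero).1 h4
  · have hWI : I.ideal W = (I.ideal ⟨U, hU⟩).map r := (I.map_ideal_basicOpen ⟨U, hU⟩ h').symm
    rw [hWI]
    refine le_antisymm (Ideal.map_le_iff_le_comap.2 fun a ha => ?_)
      (by rw [Ideal.span_singleton_le_iff_mem]; exact Ideal.mem_map_of_mem _ hj)
    obtain ⟨e, he⟩ := hI a ha
    obtain ⟨n, t, hn⟩ := key a e j (by rw [he, hjb]; ring)
    rw [Ideal.mem_comap, Ideal.mem_span_singleton]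
    have := congrArg r hn
    rw [map_mul, map_pow, map_mul] at this
    exact ((hu.pow n).dvd_mul_left).1 ⟨r t, by rw [this, mul_comm]⟩

end Groth.Agent.AlgSpCartier
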