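import Groth.Agent.AlgSpCartier.Chart
import Mathlib.RingTheory.Flat.Basic
import Mathlib.AlgebraicGeometry.Morphisms.Affine
import Mathlib.Algebra.Category.Ring.Constructions

/-!
Effective Cartier divisors flat over a base stay effective Cartier after base change.
-/

set_option autoImplicit false
set_option backward.isDefEq.respectTransparency false
universe u

open CategoryTheory Limits AlgebraicGeometry TensorProduct

namespace Groth.Agent.AlgSpCartier

theorem rTensor_injective_of_flat_coker {R N P Q M : Type u} [CommRing R] [AddCommGroup N] [Module R N]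
    [AddCommGroup P] [Module R P] [AddCommGroup Q] [Module R Q] [AddCommGroup M] [Module R M] [Module.Flat R Q]
    (f : N →ₗ[R] P) (g : P →ₗ[R] Q) (hf : Function.Injective f) (hg : Function.Surjective g)
    (hfg : Function.Exact f g) : Function.Injective (f.rTensor M) := by
  let π : (M →₀ R) →ₗ[R] M := Finsupp.linearCombination R id
  have hπ : Function.Surjective π := fun m => ⟨Finsupp.single m 1, by simp [π]⟩
  let K := LinearMap.ker π
  have exK : Function.Exact K.subtype π := LinearMap.exact_subtype_ker_map π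
  rw [injective_iff_map_eq_zero]
  intro x hx
  obtain ⟨z, rfl⟩ := LinearMap.lTensor_surjective N hπ x
  have h1 : π.lTensor P (f.rTensor _ z) = 0 := by
    rw [← hx, ← LinearMap.comp_apply, ← LinearMap.comp_apply, LinearMap.lTensor_comp_rTensor,
      LinearMap.rTensor_comp_lTensor]
  obtain ⟨w, hw⟩ := ((lTensor_exact (R := R) (M := ↥(LinearMap.ker π)) P (LinearMap.exact_subtype_ker_map π) hπ) _).1 h1
  have h2 : K.subtype.lTensor Q (g.rTensor _ w) = 0 := by
    rw [← LinearMap.comp_apply, LinearMap.lTensor_comp_rTensor, ← LinearMap.rTensor_comp_lTensor,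
      LinearMap.comp_apply, hw, ← LinearMap.comp_apply, ← LinearMap.rTensor_comp,
      hfg.linearMap_comp_eq_zero, LinearMap.rTensor_zero]
    rfl
  have h3 := (map_eq_zero_iff _ (Module.Flat.lTensor_preserves_injective_linearMap K.subtype Subtype.val_injective)).1 h2
  obtain ⟨w', rfl⟩ := ((rTensor_exact K hfg hg) _).1 h3
  have h4 : f.rTensor (M →₀ R) (K.subtype.lTensor N w') = f.rTensor (M →₀ R) z := by
    rw [← hw, ← LinearMap.comp_apply, ← LinearMap.comp_apply, LinearMap.lTensor_comp_rTensor,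
      LinearMap.rTensor_comp_lTensor]
  have h5 := Module.Flat.rTensor_preserves_injective_linearMap f hf h4
  rw [← h5, ← LinearMap.comp_apply, ← LinearMap.lTensor_comp, exK.linearMap_comp_eq_zero, LinearMap.lTensor_zero]
  rfl

/-- An element regular with flat quotient stays regular after any base change. -/
theorem regular_baseChange {A B Q A' B' : Type u} [CommRing A] [CommRing B] [CommRing Q] [CommRing A']
    [CommRing B'] [Algebra A B] [Algebra A Q] [Module.Flat A Q] [Algebra A A'] [Algebra A B'] [Algebra B B']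
    [Algebra A' B'] [IsScalarTower A B B'] [IsScalarTower A A' B'] [Algebra.IsPushout A B A' B']
    (q : B →ₐ[A] Q) (hq : Function.Surjective q) {t : B} (ht : t ∈ nonZeroDivisors B)
    (hker : RingHom.ker q = Ideal.span {t}) : algebraMap B B' t ∈ nonZeroDivisors B' := by
  have hinj : Function.Injective ((LinearMap.mulLeft A t).rTensor A') := by
    refine rTensor_injective_of_flat_coker _ q.toLinearMap ?_ hq fun y => ?_
    · intro a b h
      simp only [LinearMap.mulLeft_apply] at h
      exact sub_eq_zero.1 (mem_nonZeroDivisors_iff_right.1 ht (a - b) (by linear_combination h))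
    · change q y = 0 ↔ y ∈ Set.range fun x => t * x
      rw [← RingHom.mem_ker, hker, Ideal.mem_span_singleton']
      exact ⟨fun ⟨a, ha⟩ => ⟨a, by rw [← ha]; exact mul_comm _ _⟩, fun ⟨a, ha⟩ => ⟨a, by rw [← ha]; exact mul_comm _ _⟩⟩
  let e := Algebra.IsPushout.equiv A B A' B'
  refine mem_nonZeroDivisors_iff_right.2 fun z hz => ?_
  obtain ⟨w, rfl⟩ := e.surjective z
  have key : ∀ w, e ((LinearMap.mulLeft A t).rTensor A' w) = algebraMap B B' t * e w := by
    intro w
    induction w using TensorProduct.induction_on with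
    | zero => simp
    | add x y hx hy => simp only [map_add, hx, hy, mul_add]
    | tmul x y =>
      rw [LinearMap.rTensor_tmul, LinearMap.mulLeft_apply, ← smul_eq_mul (a := t), ← TensorProduct.smul_tmul',
        map_smul, Algebra.smul_def]
  have h0 : e ((LinearMap.mulLeft A t).rTensor A' w) = 0 := by rw [key, mul_comm]; exact hz
  rw [map_eq_zero_iff _ e.injective, map_eq_zero_iff _ hinj] at h0
  rw [h0, map_zero]

theorem appLE_top {X Y : Scheme.{u}} (k : X ⟶ Y) (h : (⊤ : X.Opens) ≤ k ⁻¹ᵁ ⊤) :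
    k.appLE ⊤ ⊤ h = k.appTop := by
  rw [Scheme.Hom.appTop, Scheme.Hom.app_eq_appLE]
  rfl

theorem cartier_pullback_affine {X Y Y' : Scheme.{u}} [IsAffine X] [IsAffine Y] [IsAffine Y'] (f : X ⟶ Y)
    (g : Y' ⟶ Y) (I : X.IdealSheafData) {t : Γ(X, ⊤)} (ht : t ∈ nonZeroDivisors Γ(X, ⊤))
    (hI : I.ideal ⟨⊤, isAffineOpen_top X⟩ = Ideal.span {t}) [Flat (I.subschemeι ≫ f)] :
    BlowUp.IsEffCartierIdeal (I.comap (pullback.fst f g)) := by
  haveI : IsAffine I.subscheme := isAffine_of_isAffineHom I.subschemeι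
  let A := Γ(Y, ⊤)
  let B := Γ(X, ⊤)
  let Q := Γ(I.subscheme, ⊤)
  let A' := Γ(Y', ⊤)
  let B' := Γ(pullback f g, ⊤)
  have hpo := isPushout_appTop_of_isPullback (IsPullback.of_hasPullback f g)
  letI : Algebra A B := f.appTop.hom.toAlgebra
  letI : Algebra A A' := g.appTop.hom.toAlgebra
  letI : Algebra B B' := (pullback.fst f g).appTop.hom.toAlgebra
  letI : Algebra A' B' := (pullback.snd f g).appTop.hom.toAlgebra
  letI : Algebra A B' := ((pullback.fst f g).appTop.hom.comp f.appTop.hom).toAlgebra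
  haveI : IsScalarTower A B B' := IsScalarTower.of_algebraMap_eq fun _ => rfl
  haveI : IsScalarTower A A' B' := IsScalarTower.of_algebraMap_eq fun x => by
    have := congrArg (fun k => k.hom x) hpo.w
    exact this
  haveI : Algebra.IsPushout A B A' B' := CommRingCat.isPushout_iff_isPushout.1 hpo
  letI : Algebra A Q := (I.subschemeι.appTop.hom.comp f.appTop.hom).toAlgebra
  haveI : Module.Flat A Q := by
    have h := Flat.flat_appLE (I.subschemeι ≫ f) (isAffineOpen_top Y) (V := ⊤) (isAffineOpen_top I.subscheme) le_top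
    rw [appLE_top, Scheme.Hom.comp_appTop] at h
    exact h
  let q : B →ₐ[A] Q := { I.subschemeι.appTop.hom with commutes' := fun _ => rfl }
  have hker : RingHom.ker I.subschemeι.appTop.hom = Ideal.span {t} := by
    rw [← hI]
    conv_rhs => rw [← I.ker_subschemeι]
    rw [Scheme.Hom.ker_apply]
  have hnzd := regular_baseChange (A' := A') (B' := B') q (I.subschemeι.app_surjective ⊤ (isAffineOpen_top X)) ht hker
  refine fun x => ⟨⟨⊤, isAffineOpen_top _⟩, trivial, _, hnzd, ?_⟩
  rw [FpqcDescent.ideal_comap I (pullback.fst f g) ⟨⊤, isAffineOpen_top X⟩ ⟨⊤, isAffineOpen_top _⟩ le_top, hI,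
    Ideal.map_span, Set.image_singleton]
  rw [appLE_top]
  rfl

theorem flat_of_comp_mono {X Y Z : Scheme.{u}} (f : X ⟶ Y) (ι : Y ⟶ Z) [Mono ι] [Flat (f ≫ ι)] : Flat f :=
  MorphismProperty.of_isPullback (P := @Flat)
    (show IsPullback (𝟙 X) f (f ≫ ι) ι from
      IsPullback.of_isLimit' ⟨Category.id_comp _⟩ (PullbackCone.IsLimit.mk _ (fun s => s.fst)
        (fun s => Category.comp_id _)
        (fun s => (cancel_mono ι).1 (by rw [Category.assoc]; exact s.condition))
        (fun s m h _ => by simpa using h))).flip.flip inferInstance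

/-- An effective Cartier divisor flat over the base stays effective Cartier after base change. -/
theorem cartier_pullback {X Y Y' : Scheme.{u}} (f : X ⟶ Y) (g : Y' ⟶ Y) (I : X.IdealSheafData)
    (hI : BlowUp.IsEffCartierIdeal I) [Flat (I.subschemeι ≫ f)] :
    BlowUp.IsEffCartierIdeal (I.comap (pullback.fst f g)) := by
  refine ModPairLib.isEffCartier_of_local fun x => ?_
  obtain ⟨U, hU, hxU, -⟩ := exists_isAffineOpen_mem_and_subset (U := ⊤) (x := f (pullback.fst f g x)) trivial
  obtain ⟨V, hxV, hVU, hspan⟩ := ModPairLib.exists_span hI (pullback.fst f g x) (f ⁻¹ᵁ U) hxU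
  have hxU' : g (pullback.snd f g x) ∈ U := by
    rw [← Scheme.Hom.comp_apply, ← pullback.condition, Scheme.Hom.comp_apply]; exact hxU
  obtain ⟨W, hW, hxW, hWU⟩ := exists_isAffineOpen_mem_and_subset (U := g ⁻¹ᵁ U) (x := pullback.snd f g x) hxU'
  haveI : IsAffine V.1.toScheme := V.2
  haveI : IsAffine U.toScheme := hU
  haveI : IsAffine W.toScheme := hW
  let f' : V.1.toScheme ⟶ U.toScheme := IsOpenImmersion.lift U.ι (V.1.ι ≫ f) (by
    rw [Scheme.Opens.range_ι]; rintro _ ⟨z, rfl⟩; exact hVU z.2)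
  let g' : W.toScheme ⟶ U.toScheme := IsOpenImmersion.lift U.ι (W.ι ≫ g) (by
    rw [Scheme.Opens.range_ι]; rintro _ ⟨z, rfl⟩; exact hWU z.2)
  have hf' : V.1.ι ≫ f = f' ≫ U.ι := (IsOpenImmersion.lift_fac _ _ _).symm
  have hg' : W.ι ≫ g = g' ≫ U.ι := (IsOpenImmersion.lift_fac _ _ _).symm
  refine ⟨pullback f' g', pullback.map f' g' f g V.1.ι W.ι U.ι hf'.symm hg'.symm, inferInstance, ?_, ?_⟩
  · rw [Scheme.Pullback.range_map]
    exact ⟨⟨⟨_, hxV⟩, rfl⟩, ⟨⟨_, hxW⟩, rfl⟩⟩
  rw [← Scheme.IdealSheafData.comap_comp, pullback.lift_fst, Scheme.IdealSheafData.comap_comp]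
  obtain ⟨t, ht⟩ := hspan ⟨V.1.ι ''ᵁ ⊤, (isAffineOpen_top _).image_of_isOpenImmersion _⟩ (by simp)
  have hIV := ModPairLib.isEffCartier_comap_flat hI V.1.ι
  have htop : (⊤ : V.1.toScheme.Opens) ≤ V.1.ι ⁻¹ᵁ (V.1.ι ''ᵁ ⊤) := by simp
  have he : (I.comap V.1.ι).ideal ⟨⊤, isAffineOpen_top _⟩ =
      Ideal.span {(V.1.ι.appLE (V.1.ι ''ᵁ ⊤) ⊤ htop).hom t} := by
    rw [FpqcDescent.ideal_comap I V.1.ι ⟨V.1.ι ''ᵁ ⊤, (isAffineOpen_top _).image_of_isOpenImmersion _⟩ ⟨⊤, isAffineOpen_top _⟩ htop, ht, Ideal.map_span, Set.image_singleton]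
  haveI : Flat ((I.comap V.1.ι).subschemeι ≫ f') := by
    let k : (I.comap V.1.ι).subscheme ⟶ I.subscheme := (I.comapIso V.1.ι).hom ≫ pullback.snd _ _
    have hk : ((I.comap V.1.ι).subschemeι ≫ f') ≫ U.ι = k ≫ I.subschemeι ≫ f := by
      rw [Category.assoc, ← hf', Category.assoc, ← pullback.condition_assoc,
        Scheme.IdealSheafData.comapIso_hom_fst_assoc]
    haveI : Flat (((I.comap V.1.ι).subschemeι ≫ f') ≫ U.ι) := by rw [hk]; infer_instance
    exact flat_of_comp_mono _ U.ι
  exact cartier_pullback_affine f' g' _ (ModPairLib.nzd_of_span hIV _ he) he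

end Groth.Agent.AlgSpCartier
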