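import Groth.Agent.AlgSpCartier.Chart
import Groth.Prelude.Def_AlgSpModX

/-!
Ideal sheaves on the small etale site versus ideal sheaves on charts.
-/

set_option autoImplicit false
set_option backward.isDefEq.respectTransparency false
universe u

open CategoryTheory Limits AlgebraicGeometry
open AlgSp

namespace Groth.Agent.AlgSpCartier

variable {S : Scheme.{u}} {X : Sp S}

/-- The ideal of a closed subspace on an affine etale object is the ideal cutting it out in the chart. -/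
theorem idealOfRep_eq {D : Sp S} {i : D ⟶ X} (hi : RepWith @IsClosedImmersion i) {U : Over S}
    (a : (yon S).obj U ⟶ X) (ha : RepWith @Etale a) [hU : IsAffine U.left] {J : U.left.IdealSheafData}
    (hJ : CutsOut i a J) :
    (idealOfRep hi.1).ideal (EtOver.mk a ha) hU = J.ideal ⟨⊤, isAffineOpen_top U.left⟩ := by
  have sq := hi.1.isPullback a
  haveI : IsClosedImmersion (hi.1.snd a).left := hi.2 _ _ _ sq
  have h := comap_eq (W := U) (cutsOut_of_sq sq) hJ (𝟙 U) (𝟙 U) rfl
  rw [show (𝟙 U : U ⟶ U).left = 𝟙 U.left from rfl, Scheme.IdealSheafData.comap_id,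
    Scheme.IdealSheafData.comap_id] at h
  rw [← h, Scheme.Hom.ker_apply]
  rfl

/-- Products of ideal sheaves on the etale site are products in every chart. -/
theorem cutsOut_mul {D₁ D₂ D : Sp S} {i₁ : D₁ ⟶ X} {i₂ : D₂ ⟶ X} {i : D ⟶ X} {I₁ I₂ : IdealEt X}
    (h₁ : IsCutOutBy I₁ i₁) (h₂ : IsCutOutBy I₂ i₂) (hD : IsCutOutBy (I₁ * I₂) i) {V : Over S}
    {p : (yon S).obj V ⟶ X} (hp : RepWith @Etale p) {J₁ J₂ J : V.left.IdealSheafData}
    (hJ₁ : CutsOut i₁ p J₁) (hJ₂ : CutsOut i₂ p J₂) (hJ : CutsOut i p J) : J = J₁ * J₂ := by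
  refine Scheme.IdealSheafData.ext (funext fun O => ?_)
  let U : Over S := Over.mk (O.1.ι ≫ V.hom)
  let k : U ⟶ V := Over.homMk O.1.ι rfl
  haveI hU : IsAffine U.left := O.2
  have ha : RepWith @Etale ((yon S).map k ≫ p) :=
    AlgSpc.repWith_comp ((repWith_yon_map_iff @Etale k).2 (inferInstanceAs (Etale O.1.ι))) hp
  have hle : (⊤ : U.left.Opens) ≤ O.1.ι ⁻¹ᵁ O.1 := fun z _ => z.2
  let r := (O.1.ι.appLE O.1 ⊤ hle).hom
  have key : ∀ {E : Sp S} {e : E ⟶ X} {I : IdealEt X} {K : V.left.IdealSheafData},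
      IsCutOutBy I e → CutsOut e p K →
      I.ideal (EtOver.mk ((yon S).map k ≫ p) ha) hU = (K.ideal O).map r := by
    rintro E e I K ⟨hi, rfl⟩ hK
    obtain ⟨K', hK'⟩ := exists_cutsOut hi ((yon S).map k ≫ p)
    rw [idealOfRep_eq hi _ ha hK']
    have h := comap_eq (W := U) hK' hK (𝟙 U) k (by rw [CategoryTheory.Functor.map_id, Category.id_comp])
    rw [show (𝟙 U : U ⟶ U).left = 𝟙 U.left from rfl, Scheme.IdealSheafData.comap_id] at h
    rw [h]
    exact FpqcDescent.ideal_comap K O.1.ι O ⟨⊤, isAffineOpen_top U.left⟩ hle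
  have h := key hD hJ
  rw [show (I₁ * I₂).ideal (EtOver.mk ((yon S).map k ≫ p) ha) hU = I₁.ideal _ hU * I₂.ideal _ hU from rfl,
    key h₁ hJ₁, key h₂ hJ₂, ← Ideal.map_mul] at h
  haveI : IsIso (O.1.ι.appLE O.1 ⊤ hle) := by
    rw [Scheme.Hom.appLE]
    haveI : IsIso ((O.1.toScheme).presheaf.map (homOfLE hle).op) := by
      rw [show (homOfLE hle).op = (eqToHom (le_antisymm hle le_top)).op from rfl]
      infer_instance
    haveI : IsIso (O.1.ι.app O.1) := O.1.ι.isIso_app O.1 (by rw [Scheme.Opens.opensRange_ι])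
    infer_instance
  have hr : Function.Bijective r := ConcreteCategory.bijective_of_isIso (O.1.ι.appLE O.1 ⊤ hle)
  rw [Scheme.IdealSheafData.ideal_mul, Pi.mul_apply]
  have := congrArg (Ideal.comap r) h.symm
  rwa [Ideal.comap_map_of_bijective r hr, Ideal.comap_map_of_bijective r hr] at this

end Groth.Agent.AlgSpCartier
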