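import Groth.Agent.AlgSpCartier.Chart
import Groth.Agent.DivPts.SectionFibre
import Groth.Agent.SerreLift.Basic
import Groth.Prelude.Def_Pi1
import Groth.Agent.CAlgSerre.NormalImp
import Mathlib.AlgebraicGeometry.Morphisms.FiniteType

/-!
Serre's conditions of effective Cartier divisors.
-/

set_option autoImplicit false
set_option backward.isDefEq.respectTransparency false
universe u

open CategoryTheory Limits AlgebraicGeometry IsLocalRing
open AlgSp

namespace Groth.Agent.AlgSpCartier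

theorem quot_min {R T : Type u} [CommRing R] [IsLocalRing R] [IsNoetherianRing R] [CommRing T]
    [IsLocalRing T] (φ : R →+* T) (hs : Function.Surjective φ) {t : R} (htm : t ∈ maximalIdeal R)
    (ht : t ∈ nonZeroDivisors R) (hker : RingHom.ker φ = Ideal.span {t}) (k : ℕ)
    (hk : min ((k : ℕ) : WithBot ℕ∞) (ringKrullDim R) ≤ ((LocCoh.depth R R : ℕ∞) : WithBot ℕ∞)) :
    min ((k - 1 : ℕ) : WithBot ℕ∞) (ringKrullDim T) ≤ ((LocCoh.depth T T : ℕ∞) : WithBot ℕ∞) := by
  have e : R ⧸ Ideal.span {t} ≃+* T :=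
    (Ideal.quotEquivOfEq hker.symm).trans (RingHom.quotientKerEquivOfSurjective hs)
  haveI : Nontrivial (R ⧸ Ideal.span {t}) := e.toEquiv.nontrivial
  haveI : IsLocalRing (R ⧸ Ideal.span {t}) :=
    IsLocalRing.of_surjective' (Ideal.Quotient.mk _) Ideal.Quotient.mk_surjective
  haveI : IsNoetherianRing T := isNoetherianRing_of_ringEquiv _ e
  have hdim : ringKrullDim T + 1 = ringKrullDim R := by
    rw [← ringKrullDim_eq_of_ringEquiv e]
    exact ringKrullDim_quotient_span_singleton_succ_eq_ringKrullDim_of_mem_nonZeroDivisors ht htm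
  have hr : IsSMulRegular R t := fun x y hxy => sub_eq_zero.1
    (mem_nonZeroDivisors_iff_right.1 ht (x - y) (by simp only [smul_eq_mul] at hxy; linear_combination hxy))
  have hdepth : LocCoh.depth T T + 1 = LocCoh.depth R R := by
    rw [← SerreLift.depth_eq_of_ringEquiv e,
      Depth.depth_eq_of_surjective (R := R) (M := R ⧸ Ideal.span {t}) Ideal.Quotient.mk_surjective,
      LocCoh.depth, LocCoh.depth, ← Depth.idealDepth_quotSMulTop_add_one R htm hr]
    congr 1
    refine Depth.idealDepth_congr (Submodule.quotEquivOfEq _ _ ?_)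
    rw [← Submodule.ideal_span_singleton_smul, smul_eq_mul, Ideal.mul_top]
  obtain ⟨d, hd⟩ : ∃ d : ℕ∞, (d : WithBot ℕ∞) = ringKrullDim T :=
    WithBot.ne_bot_iff_exists.1 ringKrullDim_ne_bot
  rw [← hdim, ← hd, ← hdepth] at hk
  rw [← hd]
  change min (((k : ℕ∞)) : WithBot ℕ∞) ((d : WithBot ℕ∞) + ((1 : ℕ∞) : WithBot ℕ∞)) ≤ _ at hk
  rw [← WithBot.coe_add, ← WithBot.coe_min, WithBot.coe_le_coe] at hk
  change min ((((k - 1 : ℕ) : ℕ∞)) : WithBot ℕ∞) (d : WithBot ℕ∞) ≤ _
  rw [← WithBot.coe_min, WithBot.coe_le_coe]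
  cases k with
  | zero => simp
  | succ n =>
    rw [Nat.cast_succ, min_add_add_right] at hk
    exact (ENat.add_le_add_iff_right ENat.one_ne_top).1 hk

theorem min_two_le_depth {L : Type u} [CommRing L] [IsDomain L] [IsLocalRing L] [IsNoetherianRing L]
    [IsIntegrallyClosed L] :
    min ((2 : ℕ) : WithBot ℕ∞) (ringKrullDim L) ≤ ((LocCoh.depth L L : ℕ∞) : WithBot ℕ∞) := by
  obtain ⟨d, hd⟩ : ∃ d : ℕ∞, (d : WithBot ℕ∞) = ringKrullDim L :=
    WithBot.ne_bot_iff_exists.1 ringKrullDim_ne_bot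
  rw [← hd]
  change min (((2 : ℕ∞)) : WithBot ℕ∞) (d : WithBot ℕ∞) ≤ _
  rw [← WithBot.coe_min, WithBot.coe_le_coe]
  rcases le_or_gt 2 d with h | h
  · exact le_trans (min_le_left _ _) (CAlgSerre.two_le_depth (by rw [← hd]; exact (WithBot.coe_le_coe.2 h : ((2 : ℕ∞) : WithBot ℕ∞) ≤ d)))
  · refine le_trans (min_le_right _ _) ?_
    rcases eq_or_ne d 0 with rfl | h0
    · exact bot_le
    · refine le_trans (Order.le_of_lt_add_one (show d < 1 + 1 by rw [one_add_one_eq_two]; exact h) : d ≤ 1) (CAlgSerre.one_le_depth fun hf => h0 ?_)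
      have := hd.trans (ringKrullDim_eq_zero_of_isField hf)
      exact_mod_cast this

variable {S : Scheme.{u}}

/-- An effective Cartier divisor of an `S_k` space is `S_{k-1}`. -/
theorem sk_of_cartier {X D : Sp S} (hXa : IsAlgSpace X) (k : ℕ)
    (hX : EtaleLocally (fun U => IsLocallyNoetherian U ∧ ∀ x : ↥U,
        min ((k : ℕ) : WithBot ℕ∞) (ringKrullDim ↥(U.presheaf.stalk x)) ≤
          ((LocCoh.depth ↥(U.presheaf.stalk x) ↥(U.presheaf.stalk x) : ℕ∞) : WithBot ℕ∞)) X)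
    {i : D ⟶ X} (hD : IsEffCartierSub i) :
    EtaleLocally (fun V => IsLocallyNoetherian V ∧ ∀ v : ↥V,
        min ((k - 1 : ℕ) : WithBot ℕ∞) (ringKrullDim ↥(V.presheaf.stalk v)) ≤
          ((LocCoh.depth ↥(V.presheaf.stalk v) ↥(V.presheaf.stalk v) : ℕ∞) : WithBot ℕ∞)) D := by
  obtain ⟨U, p, hp, hps, hU, hk⟩ := hX
  obtain ⟨J, fst, sq⟩ := exists_cutsOut hD.1 p
  refine ⟨sub J, fst, AlgSpc.repWith_of_isPullback sq.flip hp, AlgSpc.repWith_of_isPullback sq.flip hps, ?_⟩
  change IsLocallyNoetherian J.subscheme ∧ _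
  haveI := hU
  haveI : IsLocallyNoetherian J.subscheme := LocallyOfFiniteType.isLocallyNoetherian J.subschemeι
  refine ⟨inferInstance, fun v => ?_⟩
  have hJ := cartier_of_chart hXa hD p hp ⟨fst, sq⟩
  obtain ⟨O, hvO, f, hf, hfJ⟩ := hJ (J.subschemeι v)
  refine quot_min (J.subschemeι.stalkMap v).hom (J.subschemeι.stalkMap_surjective v) (t := (U.left.presheaf.germ O.1 _ hvO).hom f)
    ?_ ?_ (DivPts.ker_stalkMap_eq_span J.subschemeι O (by rw [Scheme.IdealSheafData.ker_subschemeι]; exact hfJ) v hvO) k (hk _)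
  · refine (IsLocalRing.mem_maximalIdeal _).2 fun hu => ?_
    have h1 := DivPts.ker_stalkMap_eq_span J.subschemeι O (f := f) (by rw [Scheme.IdealSheafData.ker_subschemeι]; exact hfJ) v hvO
    rw [Ideal.span_singleton_eq_top.2 hu] at h1
    exact RingHom.ker_ne_top _ h1
  · letI : Algebra Γ(U.left, O.1) (U.left.presheaf.stalk (J.subschemeι v)) :=
      (U.left.presheaf.germ O.1 _ hvO).hom.toAlgebra
    haveI : IsLocalization.AtPrime (U.left.presheaf.stalk (J.subschemeι v)) (O.2.primeIdealOf ⟨_, hvO⟩).asIdeal :=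
      O.2.isLocalization_stalk ⟨_, hvO⟩
    exact IsLocalization.map_nonZeroDivisors_le (O.2.primeIdealOf ⟨_, hvO⟩).asIdeal.primeCompl
      (U.left.presheaf.stalk (J.subschemeι v)) ⟨f, hf, rfl⟩

end Groth.Agent.AlgSpCartier
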